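import Groth.Agent.ASp.RedFactor
import Groth.Agent.ASp.OpenImm
import Groth.Agent.ASp.Morph
import Groth.Agent.ASp.Graph
import Groth.Agent.ASp.BaseDesc
import Groth.Agent.S10195
import Groth.Agent.S10194
/-!
Morphisms of spaces etale over `Y` are glued from a proper modification and the closed centre.
-/

set_option autoImplicit false
set_option backward.isDefEq.respectTransparency false
set_option backward.isDefEq.respectTransparency.types false

universe u

open CategoryTheory CategoryTheory.Limits AlgebraicGeometry Opposite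

namespace Groth.Agent.AlgSpHomGlue

open _root_.AlgSp Groth.Agent.ASp

variable {S : Scheme.{u}}

/-- Every point is carried by a field. -/
theorem exists_field_rep {F : Sp S} (x : Points F) :
    ∃ (T : Over S) (g : (yon S).obj T ⟶ F) (t : ↥T.left), Points.ofPt g t = x ∧ Subsingleton ↥T.left ∧
      IsReduced T.left := by
  induction x using Points.ind with | h p =>
  let h := (J S).uliftYonedaEquiv.{u+1}.symm p.val
  let x0 : Points ((yon S).obj p.pt) := Points.mk ⟨p.K, p.str, ⟨𝟙 _⟩⟩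
  refine ⟨p.pt, h, Points.toScheme _ x0, ?_, inferInstanceAs (Subsingleton (PrimeSpectrum p.K)),
    inferInstanceAs (IsReduced (Spec (CommRingCat.of p.K)))⟩
  rw [Points.ofPt_eq_map_ofScheme, Points.ofScheme_toScheme, Points.map_mk]
  have : h.hom.app (op p.pt) ⟨𝟙 _⟩ = p.val := by
    rw [← GrothendieckTopology.uliftYonedaEquiv_apply, Equiv.apply_symm_apply]
  exact congrArg Points.mk (congrArg (FieldPt.mk p.K p.str) this)

theorem range_of_subsingleton {F G : Sp S} {T : Over S} [Subsingleton ↥T.left] (g : (yon S).obj T ⟶ F) (t : ↥T.left)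
    (j : G ⟶ F) (h : Points.ofPt g t ∈ Set.range (Points.map j)) :
    Set.range (Points.map g) ⊆ Set.range (Points.map j) := by
  rintro x ⟨z, rfl⟩
  obtain ⟨s, rfl⟩ := (Points.schemeHomeo T).surjective z
  rw [Subsingleton.elim s t]
  rw [Points.ofPt_eq_map_ofScheme] at h
  exact h

theorem lift_closed {F G : Sp S} {T : Over S} [Subsingleton ↥T.left] [IsReduced T.left] (g : (yon S).obj T ⟶ F)
    (t : ↥T.left) {i : G ⟶ F} (hi : RepWith @IsClosedImmersion i)
    (h : Points.ofPt g t ∈ Set.range (Points.map i)) : ∃ l, l ≫ i = g :=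
  exists_lift_of_reduced ⟨T, 𝟙 _, repWith_id _ T, repWith_id _ T, ‹_›⟩ hi g (range_of_subsingleton g t i h)

theorem lift_open {F G : AlgSp.Space S} {T : Over S} [Subsingleton ↥T.left] (g : (yon S).obj T ⟶ F.obj)
    (t : ↥T.left) {j : G ⟶ F} (hj : RepWith @IsOpenImmersion j.hom)
    (h : Points.ofPt g t ∈ Set.range (Points.map j.hom)) : ∃ l, l ≫ j.hom = g := by
  obtain ⟨l, hl⟩ := (Groth.Agent.S10194.result j hj
    (ObjectProperty.homMk g : (⟨_, IsAlgSpace.yon_obj T⟩ : AlgSp.Space S) ⟶ F)).2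
    (range_of_subsingleton g t j.hom h)
  exact ⟨l.hom, congrArg (fun m : (⟨_, IsAlgSpace.yon_obj T⟩ : AlgSp.Space S) ⟶ F => m.hom) hl⟩

theorem locP_etale_of_isPullback {P F G H : Sp S} {fst : P ⟶ F} {snd : P ⟶ G} {f : F ⟶ H} {g : G ⟶ H}
    (h : IsPullback fst snd f g) (hF : IsAlgSpace F) (hG : IsAlgSpace G) (hH : IsAlgSpace H)
    (hf : LocP @Etale f) : LocP @Etale snd :=
  locP_of_isPullback h.flip hF hH hG hf

theorem injective_of_openImm {F G : Sp S} {j : F ⟶ G} (hG : IsAlgSpace G) (hj : RepWith @IsOpenImmersion j) :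
    Function.Injective (Points.map j) :=
  (isEmbedding_of_immersion hG
    (repWith_mono (fun _ _ g (hg : IsOpenImmersion g) => inferInstanceAs (IsImmersion g)) hj)).1.injective

variable {Y Y' Z E U U' V₁ V₂ V₁' W₁ : AlgSp.Space S} {f : Y' ⟶ Y} {i : Z ⟶ Y} {jU : U ⟶ Y}
  {fU : U' ⟶ U} {jU' : U' ⟶ Y'} {v₁ : V₁ ⟶ Y} {v₂ : V₂ ⟶ Y} {a₁ : V₁' ⟶ V₁} {p₁ : V₁' ⟶ Y'}
  {b₁ : W₁ ⟶ V₁} {q₁ : W₁ ⟶ Z}

/-- Every point of a space over `Y` comes from the modification or from the centre. -/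
theorem mem_range_or (hU : Set.range (Points.map jU.hom) = (Set.range (Points.map i.hom))ᶜ)
    (hU' : IsPullback jU'.hom fU.hom f.hom jU.hom) [IsIso fU]
    (ha₁ : IsPullback a₁.hom p₁.hom v₁.hom f.hom) (hb₁ : IsPullback b₁.hom q₁.hom v₁.hom i.hom)
    (x : Points V₁.obj) : x ∈ Set.range (Points.map a₁.hom) ∨ x ∈ Set.range (Points.map b₁.hom) := by
  by_cases h : Points.map v₁.hom x ∈ Set.range (Points.map i.hom)
  · obtain ⟨z, hz⟩ := h
    obtain ⟨w, hw, -⟩ := points_exists_of_isPullback hb₁ x z hz.symm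
    exact Or.inr ⟨w, hw⟩
  · obtain ⟨z, hz⟩ : Points.map v₁.hom x ∈ Set.range (Points.map jU.hom) := by rw [hU]; exact h
    obtain ⟨w, hw, -⟩ := points_exists_of_isPullback ha₁ x (Points.map jU'.hom (Points.map (inv fU).hom z)) (by
      rw [← Points.map_comp jU'.hom f.hom, hU'.w, Points.map_comp, ← Points.map_comp (inv fU).hom fU.hom,
        show (inv fU).hom ≫ fU.hom = 𝟙 U.obj from congrArg (fun m : U ⟶ U => m.hom) (IsIso.inv_hom_id fU),
        Points.map_id]
      exact hz.symm)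
    exact Or.inl ⟨w, hw⟩

theorem isOpenImmersion_diagonal {T : Sp S} (hT : IsAlgSpace T) {v : T ⟶ Y.obj} (hv : LocP @Etale v) :
    RepWith @IsOpenImmersion (pullback.diagonal v) := by
  have hTT : IsAlgSpace (pullback v v) := isAlgSpace_pullback Y.property.diag hT hT _ _
  refine repWith_isOpenImmersion_of_mono_etale hT hTT _ ?_
  refine locP_of_comp (Q := @Etale) (fun g h hgh hh => ?_) (g := pullback.fst v v ≫ v) Y.property ?_
    (locP_comp hT (locP_etale_of_isPullback (IsPullback.of_hasPullback v v).flip hT hT Y.property hv) hv)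
  · haveI : Etale h := hh
    haveI : Etale (g ≫ h) := hgh
    exact Etale.of_comp g h
  · rw [pullback.diagonal_fst_assoc]
    exact hv

/-- Two morphisms which agree on the modification and on the centre are equal. -/
theorem eq_of_agree (hU : Set.range (Points.map jU.hom) = (Set.range (Points.map i.hom))ᶜ)
    (hU' : IsPullback jU'.hom fU.hom f.hom jU.hom) [IsIso fU]
    (ha₁ : IsPullback a₁.hom p₁.hom v₁.hom f.hom) (hb₁ : IsPullback b₁.hom q₁.hom v₁.hom i.hom)
    (hv₂ : LocP @Etale v₂.hom) (m m' : V₁.obj ⟶ V₂.obj) (hm : m ≫ v₂.hom = v₁.hom) (hm' : m' ≫ v₂.hom = v₁.hom)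
    (ha : a₁.hom ≫ m = a₁.hom ≫ m') (hb : b₁.hom ≫ m = b₁.hom ≫ m') : m = m' := by
  obtain ⟨l, hl1, hl2⟩ : ∃ l, l ≫ pullback.fst v₂.hom v₂.hom = m ∧ l ≫ pullback.snd v₂.hom v₂.hom = m' :=
    ⟨pullback.lift m m' (hm.trans hm'.symm), pullback.lift_fst _ _ _, pullback.lift_snd _ _ _⟩
  have hΔ := isOpenImmersion_diagonal V₂.property hv₂
  have sq := IsPullback.of_hasPullback (pullback.diagonal v₂.hom) l
  have hj := repWith_of_isPullback sq hΔ
  set e := pullback.snd (pullback.diagonal v₂.hom) l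
  have key : ∀ {F : Sp S} (c : F ⟶ V₁.obj), c ≫ m = c ≫ m' → ∃ k, k ≫ e = c := fun {F} c hc =>
    ⟨sq.lift (c ≫ m) c (pullback.hom_ext (by simp [hl1]) (by simp [hl2, hc])), sq.lift_snd _ _ _⟩
  have hs : Function.Surjective (Points.map e) := fun x => by
    rcases mem_range_or hU hU' ha₁ hb₁ x with ⟨w, rfl⟩ | ⟨w, rfl⟩
    · obtain ⟨k, hk⟩ := key a₁.hom ha
      exact ⟨Points.map k w, by rw [← Points.map_comp, hk]⟩
    · obtain ⟨k, hk⟩ := key b₁.hom hb
      exact ⟨Points.map k w, by rw [← Points.map_comp, hk]⟩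
  have hP : IsAlgSpace (pullback (pullback.diagonal v₂.hom) l) :=
    isAlgSpace_of_isPullback (isAlgSpace_pullback Y.property.diag V₂.property V₂.property _ _).diag
      V₂.property V₁.property sq
  haveI : Mono e := mono_of_repWith (P := @IsOpenImmersion)
    (fun g hg => haveI : IsOpenImmersion g := hg; inferInstance) hj
  haveI : IsIso e := isIso_of_mono_etale_surjective hP V₁.property e
    (locP_of_repWith (repWith_mono (fun _ _ g (hg : IsOpenImmersion g) => inferInstanceAs (Etale g)) hj)) hs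
  rw [← cancel_epi e, ← hl1, ← hl2, ← reassoc_of% sq.w, ← reassoc_of% sq.w]
  simp

/-- The glued morphism. -/
theorem exists_glue (hf : IsUnivClosedMor f.hom) (hi : RepWith @IsClosedImmersion i.hom)
    (hjU : RepWith @IsOpenImmersion jU.hom)
    (hU : Set.range (Points.map jU.hom) = (Set.range (Points.map i.hom))ᶜ)
    (hU' : IsPullback jU'.hom fU.hom f.hom jU.hom) [IsIso fU]
    (ha₁ : IsPullback a₁.hom p₁.hom v₁.hom f.hom) (hb₁ : IsPullback b₁.hom q₁.hom v₁.hom i.hom)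
    (hv₁ : LocP @Etale v₁.hom) (hv₂ : LocP @Etale v₂.hom)
    (α : V₁'.obj ⟶ V₂.obj) (β : W₁.obj ⟶ V₂.obj) (hα : α ≫ v₂.hom = a₁.hom ≫ v₁.hom)
    (hβ : β ≫ v₂.hom = b₁.hom ≫ v₁.hom)
    (hcompat : ∀ {F : Sp S} (r : F ⟶ V₁'.obj) (s : F ⟶ W₁.obj), r ≫ a₁.hom = s ≫ b₁.hom → r ≫ α = s ≫ β) :
    ∃ m : V₁.obj ⟶ V₂.obj, m ≫ v₂.hom = v₁.hom ∧ a₁.hom ≫ m = α ∧ b₁.hom ≫ m = β := by
  set π₁ := pullback.fst v₁.hom v₂.hom
  set π₂ := pullback.snd v₁.hom v₂.hom
  have hT : IsAlgSpace (pullback v₁.hom v₂.hom) :=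
    isAlgSpace_pullback Y.property.diag V₁.property V₂.property _ _
  have hπ : LocP @Etale π₁ :=
    locP_etale_of_isPullback (IsPullback.of_hasPullback v₁.hom v₂.hom).flip V₂.property V₁.property Y.property hv₂
  set c := π₁ ≫ v₁.hom with hc
  have hce : LocP @Etale c := locP_comp V₁.property hπ hv₁
  have hπc : π₂ ≫ v₂.hom = c := pullback.condition.symm
  obtain ⟨σ', hσ'1, hσ'2⟩ : ∃ s, s ≫ π₁ = a₁.hom ∧ s ≫ π₂ = α :=
    ⟨pullback.lift a₁.hom α hα.symm, pullback.lift_fst _ _ _, pullback.lift_snd _ _ _⟩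
  obtain ⟨σZ, hσZ1, hσZ2⟩ : ∃ s, s ≫ π₁ = b₁.hom ∧ s ≫ π₂ = β :=
    ⟨pullback.lift b₁.hom β hβ.symm, pullback.lift_fst _ _ _, pullback.lift_snd _ _ _⟩
  -- the two sections and their closed complements
  obtain ⟨T', t₁, t₂, sqT'⟩ : ∃ (T' : Sp S) (t₁ : T' ⟶ Y'.obj) (t₂ : T' ⟶ pullback v₁.hom v₂.hom),
      IsPullback t₁ t₂ f.hom c := ⟨_, _, _, IsPullback.of_hasPullback _ _⟩
  obtain ⟨TZ, z₁, z₂, sqTZ⟩ : ∃ (TZ : Sp S) (z₁ : TZ ⟶ Z.obj) (z₂ : TZ ⟶ pullback v₁.hom v₂.hom),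
      IsPullback z₁ z₂ i.hom c := ⟨_, _, _, IsPullback.of_hasPullback _ _⟩
  have hT' : IsAlgSpace T' := isAlgSpace_of_isPullback Y.property.diag Y'.property hT sqT'
  have hTZ : IsAlgSpace TZ := isAlgSpace_of_isPullback Y.property.diag Z.property hT sqTZ
  obtain ⟨τ, hτ1, hτ2⟩ : ∃ τ, τ ≫ t₁ = p₁.hom ∧ τ ≫ t₂ = σ' :=
    ⟨sqT'.lift p₁.hom σ' (by rw [hc, reassoc_of% hσ'1, ha₁.w]), sqT'.lift_fst _ _ _, sqT'.lift_snd _ _ _⟩
  obtain ⟨τZ, hτZ1, hτZ2⟩ : ∃ τ, τ ≫ z₁ = q₁.hom ∧ τ ≫ z₂ = σZ :=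
    ⟨sqTZ.lift q₁.hom σZ (by rw [hc, reassoc_of% hσZ1, hb₁.w]), sqTZ.lift_fst _ _ _, sqTZ.lift_snd _ _ _⟩
  have hτo : RepWith @IsOpenImmersion τ := by
    haveI : Mono τ := ⟨fun x y e => ha₁.hom_ext (by rw [← hσ'1, ← hτ2]; simp [reassoc_of% e])
      (by rw [← hτ1]; simp [reassoc_of% e])⟩
    refine repWith_isOpenImmersion_of_mono_etale V₁'.property hT' τ ?_
    refine locP_of_comp (Q := @Etale) (fun g h hgh hh => ?_) (g := t₁) Y'.property ?_
      (locP_etale_of_isPullback sqT'.flip hT Y'.property Y.property hce)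
    · haveI : Etale h := hh
      haveI : Etale (g ≫ h) := hgh
      exact Etale.of_comp g h
    · rw [hτ1]
      exact locP_etale_of_isPullback ha₁ V₁.property Y'.property Y.property hv₁
  have hτZo : RepWith @IsOpenImmersion τZ := by
    haveI : Mono τZ := ⟨fun x y e => hb₁.hom_ext (by rw [← hσZ1, ← hτZ2]; simp [reassoc_of% e])
      (by rw [← hτZ1]; simp [reassoc_of% e])⟩
    refine repWith_isOpenImmersion_of_mono_etale W₁.property hTZ τZ ?_
    refine locP_of_comp (Q := @Etale) (fun g h hgh hh => ?_) (g := z₁) Z.property ?_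
      (locP_etale_of_isPullback sqTZ.flip hT Z.property Y.property hce)
    · haveI : Etale h := hh
      haveI : Etale (g ≫ h) := hgh
      exact Etale.of_comp g h
    · rw [hτZ1]
      exact locP_etale_of_isPullback hb₁ V₁.property Z.property Y.property hv₁
  have hz₂ : RepWith @IsClosedImmersion z₂ := repWith_of_isPullback sqTZ hi
  have hemb := (isEmbedding_of_immersion hT
    (repWith_mono (fun _ _ g (hg : IsClosedImmersion g) => inferInstanceAs (IsImmersion g)) hz₂))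
  have hclosedZ : IsClosedMap (Points.map z₂) :=
    (Groth.Agent.ASp.isProperMor_of_repWith (repWith_mono
      (fun _ _ g (hg : IsClosedImmersion g) => inferInstanceAs (IsProper g)) hz₂)).2.2 hT (𝟙 _) (𝟙 _) z₂
      (IsPullback.of_horiz_isIso ⟨by simp⟩)
  let D : Set (Points (pullback v₁.hom v₂.hom)) :=
    Points.map t₂ '' (Set.range (Points.map τ))ᶜ ∪ Points.map z₂ '' (Set.range (Points.map τZ))ᶜ
  have hopen : ∀ {F G : Sp S} (j : F ⟶ G), IsAlgSpace G → RepWith @IsOpenImmersion j →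
      IsOpen (Set.range (Points.map j)) := fun {F G} j hG hj =>
    (isOpenMap_map_of_etale (repWith_mono (fun _ _ g (hg : IsOpenImmersion g) => inferInstanceAs (Etale g)) hj)).isOpen_range
  have hD : IsClosed D := ((hf hT c t₁ t₂ sqT') _ (hopen τ hT' hτo).isClosed_compl).union
    (hclosedZ _ (hopen τZ hTZ hτZo).isClosed_compl)
  obtain ⟨W, w, hw, hwr⟩ := Groth.Agent.S10195.result ⟨_, hT⟩ Dᶜ hD.isOpen_compl
  -- points of the good open over the centre and over the complement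
  have hgoodZ : ∀ (K : Over S) [Subsingleton ↥K.left] [IsReduced K.left] (t : (yon S).obj K ⟶ pullback v₁.hom v₂.hom)
      (k : ↥K.left) (z : (yon S).obj K ⟶ W₁.obj), t ≫ π₁ = z ≫ b₁.hom → Points.ofPt t k ∉ D → t = z ≫ σZ := by
    intro K _ _ t k z htz ht
    obtain ⟨l, hl1, hl2⟩ : ∃ l, l ≫ z₁ = z ≫ q₁.hom ∧ l ≫ z₂ = t :=
      ⟨sqTZ.lift (z ≫ q₁.hom) t (by rw [hc, reassoc_of% htz, Category.assoc, ← hb₁.w]),
        sqTZ.lift_fst _ _ _, sqTZ.lift_snd _ _ _⟩
    obtain ⟨s, hs⟩ := lift_open (F := ⟨TZ, hTZ⟩) (G := W₁) l k (j := ObjectProperty.homMk τZ) hτZo (by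
      by_contra hl
      exact ht (Or.inr ⟨Points.ofPt l k, hl, by rw [Points.map_ofPt, hl2]⟩))
    have hs' : s ≫ τZ = l := hs
    have : s = z := hb₁.hom_ext (by rw [← htz, ← hl2, ← hs', ← hσZ1, ← hτZ2]; simp)
      (by rw [← hl1, ← hs', ← hτZ1]; simp)
    rw [← hl2, ← hs', this, Category.assoc, hτZ2]
  have hgoodU : ∀ (K : Over S) [Subsingleton ↥K.left] [IsReduced K.left] (t : (yon S).obj K ⟶ pullback v₁.hom v₂.hom)
      (k : ↥K.left) (z : (yon S).obj K ⟶ V₁'.obj), t ≫ π₁ = z ≫ a₁.hom → Points.ofPt t k ∉ D → t = z ≫ σ' := by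
    intro K _ _ t k z htz ht
    obtain ⟨l, hl1, hl2⟩ : ∃ l, l ≫ t₁ = z ≫ p₁.hom ∧ l ≫ t₂ = t :=
      ⟨sqT'.lift (z ≫ p₁.hom) t (by rw [hc, reassoc_of% htz, Category.assoc, ← ha₁.w]),
        sqT'.lift_fst _ _ _, sqT'.lift_snd _ _ _⟩
    obtain ⟨s, hs⟩ := lift_open (F := ⟨T', hT'⟩) (G := V₁') l k (j := ObjectProperty.homMk τ) hτo (by
      by_contra hl
      exact ht (Or.inl ⟨Points.ofPt l k, hl, by rw [Points.map_ofPt, hl2]⟩))
    have hs' : s ≫ τ = l := hs
    have : s = z := ha₁.hom_ext (by rw [← htz, ← hl2, ← hs', ← hσ'1, ← hτ2]; simp)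
      (by rw [← hl1, ← hs', ← hτ1]; simp)
    rw [← hl2, ← hs', this, Category.assoc, hτ2]
  -- sections avoid D
  have hsecZ : ∀ q : Points W₁.obj, Points.map σZ q ∉ D := by
    intro q h
    rcases h with ⟨y, hy, hye⟩ | ⟨y, hy, hye⟩
    · obtain ⟨e, he1, he2⟩ := points_exists_of_isPullback (IsPullback.of_hasPullback t₂ z₂) y (Points.map τZ q)
        (by rw [hye, ← hτZ2, Points.map_comp])
      obtain ⟨K, g, k, hg, hK, hKr⟩ := exists_field_rep e
      subst hg
      obtain ⟨s, hs⟩ := lift_open (F := ⟨TZ, hTZ⟩) (G := W₁) (g ≫ pullback.snd t₂ z₂) k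
        (j := ObjectProperty.homMk τZ) hτZo ⟨q, by rw [← Points.map_ofPt]; exact he2.symm⟩
      have hs' : s ≫ τZ = g ≫ pullback.snd t₂ z₂ := hs
      have hcond : (g ≫ pullback.fst t₂ z₂) ≫ t₂ = s ≫ σZ := by
        rw [Category.assoc, pullback.condition, ← Category.assoc, ← hs', Category.assoc, hτZ2]
      obtain ⟨r, hr1, hr2⟩ : ∃ r, r ≫ a₁.hom = s ≫ b₁.hom ∧ r ≫ p₁.hom = (g ≫ pullback.fst t₂ z₂) ≫ t₁ :=
        ⟨ha₁.lift (s ≫ b₁.hom) ((g ≫ pullback.fst t₂ z₂) ≫ t₁) (by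
          rw [Category.assoc _ t₁, sqT'.w, hc, ← Category.assoc (g ≫ pullback.fst t₂ z₂) t₂, hcond, Category.assoc s σZ,
            reassoc_of% hσZ1, Category.assoc]),
          ha₁.lift_fst _ _ _, ha₁.lift_snd _ _ _⟩
      refine hy ⟨Points.ofPt r k, ?_⟩
      rw [← he1, Points.map_ofPt, Points.map_ofPt]
      congr 1
      refine sqT'.hom_ext (by rw [Category.assoc, hτ1, hr2]) ?_
      rw [Category.assoc, hτ2, hcond]
      refine pullback.hom_ext ?_ ?_
      · change (r ≫ σ') ≫ π₁ = (s ≫ σZ) ≫ π₁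
        rw [Category.assoc, hσ'1, Category.assoc, hσZ1, hr1]
      · change (r ≫ σ') ≫ π₂ = (s ≫ σZ) ≫ π₂
        rw [Category.assoc, hσ'2, Category.assoc, hσZ2, hcompat r s hr1]
    · exact hy ⟨q, hemb.1.injective (by rw [hye, ← Points.map_comp, hτZ2])⟩
  have hsecU : ∀ q : Points V₁'.obj, Points.map σ' q ∉ D := by
    intro q h
    by_cases hq : Points.map a₁.hom q ∈ Set.range (Points.map b₁.hom)
    · obtain ⟨w', hw'⟩ := hq
      obtain ⟨e, he1, he2⟩ := points_exists_of_isPullback (IsPullback.of_hasPullback a₁.hom b₁.hom) q w' hw'.symm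
      refine hsecZ w' ?_
      rw [← he1, ← Points.map_comp] at h
      rw [← he2, ← Points.map_comp]
      suffices pullback.snd a₁.hom b₁.hom ≫ σZ = pullback.fst a₁.hom b₁.hom ≫ σ' by rwa [this]
      refine pullback.hom_ext ?_ ?_
      · change (_ ≫ σZ) ≫ π₁ = (_ ≫ σ') ≫ π₁
        rw [Category.assoc, hσZ1, Category.assoc, hσ'1, pullback.condition]
      · change (_ ≫ σZ) ≫ π₂ = (_ ≫ σ') ≫ π₂
        rw [Category.assoc, hσZ2, Category.assoc, hσ'2, hcompat _ _ pullback.condition]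
    have hqi : Points.map c (Points.map σ' q) ∉ Set.range (Points.map i.hom) := by
      rintro ⟨z, hz⟩
      rw [hc, ← Points.map_comp, ← Category.assoc, hσ'1, Points.map_comp] at hz
      obtain ⟨w', hw', -⟩ := points_exists_of_isPullback hb₁ (Points.map a₁.hom q) z hz.symm
      exact hq ⟨w', hw'⟩
    rcases h with ⟨y, hy, hye⟩ | ⟨y, -, hye⟩
    · refine hy ⟨q, ?_⟩
      -- points over the open part are determined by their image
      have hinj : ∀ y₁ y₂ : Points T', Points.map t₂ y₁ = Points.map t₂ y₂ →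
          Points.map c (Points.map t₂ y₁) ∈ Set.range (Points.map jU.hom) → y₁ = y₂ := by
        intro y₁ y₂ he hr
        have hbig := (IsPullback.of_hasPullback jU'.hom t₁)
        have hlift : ∀ y₀ : Points T', Points.map c (Points.map t₂ y₀) ∈ Set.range (Points.map jU.hom) →
            ∃ e, Points.map (pullback.snd jU'.hom t₁) e = y₀ := by
          intro y₀ h₀
          obtain ⟨u, hu⟩ := h₀
          obtain ⟨u', hu', -⟩ := points_exists_of_isPullback hU' (Points.map t₁ y₀) u (by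
            rw [← Points.map_comp, sqT'.w, Points.map_comp]; exact hu.symm)
          obtain ⟨e, -, he⟩ := points_exists_of_isPullback hbig u' y₀ hu'
          exact ⟨e, he⟩
        obtain ⟨e₁, rfl⟩ := hlift y₁ hr
        obtain ⟨e₂, rfl⟩ := hlift y₂ (he ▸ hr)
        have hfUjU : RepWith @IsOpenImmersion (fU.hom ≫ jU.hom) := by
          haveI : IsIso fU.hom := (ObjectProperty.ι (IsAlgSpace (S := S))).map_isIso fU
          exact repWith_comp (repWith_of_isIso _) hjU
        have hcomp : RepWith @IsOpenImmersion (pullback.snd jU'.hom t₁ ≫ t₂) := by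
          refine repWith_of_isPullback (f := fU.hom ≫ jU.hom) (g := c) (g' := pullback.fst jU'.hom t₁) ?_ hfUjU
          rw [← hU'.w]
          exact hbig.paste_vert sqT'
        rw [← Points.map_comp, ← Points.map_comp] at he
        rw [injective_of_openImm hT hcomp he]
      refine hinj _ _ ?_ ?_
      · rw [← Points.map_comp, hτ2, hye]
      · rw [← Points.map_comp τ, hτ2, hU]
        exact hqi
    · exact hqi ⟨Points.map z₁ y, by rw [← hye, ← Points.map_comp, sqTZ.w, Points.map_comp]⟩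
  -- the good open maps isomorphically to V₁
  let e := w.hom ≫ π₁
  have hwe : LocP @Etale w.hom :=
    locP_of_repWith (repWith_mono (fun _ _ g (hg : IsOpenImmersion g) => inferInstanceAs (Etale g)) hw)
  have hee : LocP @Etale e := locP_comp hT hwe hπ
  haveI : Mono w.hom := mono_of_repWith (P := @IsOpenImmersion)
    (fun g hg => haveI : IsOpenImmersion g := hg; inferInstance) hw
  have hsurj : Function.Surjective (Points.map e) := fun x => by
    rcases mem_range_or hU hU' ha₁ hb₁ x with ⟨q, rfl⟩ | ⟨q, rfl⟩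
    · obtain ⟨p, hp⟩ : Points.map σ' q ∈ Set.range (Points.map w.hom) := hwr ▸ hsecU q
      exact ⟨p, by rw [Points.map_comp, hp, ← Points.map_comp, hσ'1]⟩
    · obtain ⟨p, hp⟩ : Points.map σZ q ∈ Set.range (Points.map w.hom) := hwr ▸ hsecZ q
      exact ⟨p, by rw [Points.map_comp, hp, ← Points.map_comp, hσZ1]⟩
  have hWW : IsAlgSpace (pullback e e) := isAlgSpace_pullback V₁.property.diag W.property W.property _ _
  have hΔ := isOpenImmersion_diagonal (Y := V₁) W.property hee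
  haveI : Mono (pullback.diagonal e) := inferInstance
  haveI : IsIso (pullback.diagonal e) := isIso_of_mono_etale_surjective W.property hWW _
    (locP_of_repWith (repWith_mono (fun _ _ g (hg : IsOpenImmersion g) => inferInstanceAs (Etale g)) hΔ)) fun p => by
    obtain ⟨K, g, k, rfl, hK, hKr⟩ := exists_field_rep p
    let g₁ := g ≫ pullback.fst e e
    let g₂ := g ≫ pullback.snd e e
    have hg : g₁ ≫ e = g₂ ≫ e := by simp [g₁, g₂, pullback.condition]
    have hnot : ∀ h : (yon S).obj K ⟶ W.obj, Points.ofPt (h ≫ w.hom) k ∉ D := fun h => by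
      have : Points.ofPt (h ≫ w.hom) k ∈ Set.range (Points.map w.hom) := ⟨Points.ofPt h k, by rw [Points.map_ofPt]⟩
      rwa [hwr] at this
    have heq : g₁ ≫ w.hom = g₂ ≫ w.hom := by
      rcases mem_range_or hU hU' ha₁ hb₁ (Points.ofPt (g₁ ≫ e) k) with ⟨q, hq⟩ | ⟨q, hq⟩
      · by_cases hi' : Points.ofPt (g₁ ≫ e) k ∈ Set.range (Points.map b₁.hom)
        · obtain ⟨z, hz⟩ := lift_closed (g₁ ≫ e) k (repWith_of_isPullback hb₁.flip hi) hi'
          rw [hgoodZ K _ k z (by rw [hz]; simp [e]) (hnot g₁),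
            hgoodZ K _ k z (by rw [hz, hg]; simp [e]) (hnot g₂)]
        · have hju : Points.ofPt ((g₁ ≫ e) ≫ v₁.hom) k ∈ Set.range (Points.map jU.hom) := by
            rw [hU]
            rintro ⟨z, hz⟩
            obtain ⟨w', hw', -⟩ := points_exists_of_isPullback hb₁ (Points.ofPt (g₁ ≫ e) k) z (by
              rw [Points.map_ofPt]; exact hz.symm)
            exact hi' ⟨w', hw'⟩
          obtain ⟨u, hu⟩ := lift_open ((g₁ ≫ e) ≫ v₁.hom) k hjU hju
          have hu2 : (u ≫ (inv fU).hom ≫ jU'.hom) ≫ f.hom = (g₁ ≫ e) ≫ v₁.hom := by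
            have hi : (inv fU).hom ≫ fU.hom = 𝟙 U.obj := congrArg (fun m : U ⟶ U => m.hom) (IsIso.inv_hom_id fU)
            rw [Category.assoc, Category.assoc, hU'.w, reassoc_of% hi, hu]
          obtain ⟨z, hz, -⟩ : ∃ z, z ≫ a₁.hom = g₁ ≫ e ∧ z ≫ p₁.hom = u ≫ (inv fU).hom ≫ jU'.hom :=
            ⟨ha₁.lift _ _ hu2.symm, ha₁.lift_fst _ _ _, ha₁.lift_snd _ _ _⟩
          rw [hgoodU K _ k z (by rw [hz]; simp [e]) (hnot g₁),
            hgoodU K _ k z (by rw [hz, hg]; simp [e]) (hnot g₂)]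
      · obtain ⟨z, hz⟩ := lift_closed (g₁ ≫ e) k (repWith_of_isPullback hb₁.flip hi) ⟨q, hq⟩
        rw [hgoodZ K _ k z (by rw [hz]; simp [e]) (hnot g₁),
          hgoodZ K _ k z (by rw [hz, hg]; simp [e]) (hnot g₂)]
    refine ⟨Points.ofPt g₁ k, ?_⟩
    rw [Points.map_ofPt]
    congr 1
    have h12 : g₁ = g₂ := (cancel_mono w.hom).1 heq
    exact pullback.hom_ext (by simp [g₁]) (by simpa [g₁, g₂] using h12)
  haveI : Mono e := by
    refine ⟨fun {F} x y h => ?_⟩
    have hd : pullback.fst e e = pullback.snd e e := by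
      rw [← cancel_epi (pullback.diagonal e), pullback.diagonal_fst, pullback.diagonal_snd]
    calc x = pullback.lift x y h ≫ pullback.fst e e := (pullback.lift_fst _ _ _).symm
      _ = pullback.lift x y h ≫ pullback.snd e e := by rw [hd]
      _ = y := pullback.lift_snd _ _ _
  haveI : IsIso e := isIso_of_mono_etale_surjective W.property V₁.property e hee hsurj
  have hlift : ∀ {F : AlgSp.Space S} (σ : F.obj ⟶ pullback v₁.hom v₂.hom), (∀ q, Points.map σ q ∉ D) →
      ∃ s, s ≫ w.hom = σ := fun {F} σ hσ => by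
    obtain ⟨s, hs⟩ := (Groth.Agent.S10194.result w hw (ObjectProperty.homMk σ : F ⟶ ⟨_, hT⟩)).2 (by
      rintro _ ⟨q, rfl⟩
      rw [hwr]
      exact hσ q)
    exact ⟨s.hom, congrArg (fun m : F ⟶ (⟨_, hT⟩ : AlgSp.Space S) => m.hom) hs⟩
  refine ⟨inv e ≫ w.hom ≫ π₂, ?_, ?_, ?_⟩
  · rw [Category.assoc, Category.assoc, hπc, hc, ← Category.assoc w.hom]
    exact IsIso.inv_hom_id_assoc e _
  · obtain ⟨s, hs⟩ := hlift σ' hsecU
    rw [show a₁.hom = s ≫ e from by rw [← hσ'1, ← hs]; simp [e], Category.assoc, IsIso.hom_inv_id_assoc,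
      reassoc_of% hs, hσ'2]
  · obtain ⟨s, hs⟩ := hlift σZ hsecZ
    rw [show b₁.hom = s ≫ e from by rw [← hσZ1, ← hs]; simp [e], Category.assoc, IsIso.hom_inv_id_assoc,
      reassoc_of% hs, hσZ2]

end Groth.Agent.AlgSpHomGlue
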